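import Cfsg.Agent.R2.T1.Odd.Typ

/-!
# S5771, NODD: tables of subgroups of `A_11` (helper25)

`R = 2³` (regular on 8 points), `Z = R × 3`.
-/

set_option autoImplicit false
set_option maxRecDepth 100000

namespace Cfsg.Agent.R2.T1.Nodd

open Cfsg.Agent.R2.T1.Odd

/-- representatives of the classes: `1`, `2⁴`, `3`, `32⁴` -/
def r11 : List (List (ℕ × ℕ)) :=
  [[], [(0, 1), (2, 3), (4, 5), (6, 7)], [(0, 1), (1, 2)], [(0, 1), (2, 3), (4, 5), (6, 7), (8, 9), (9, 10)]]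

def gR : List (List (ℕ × ℕ)) :=
  [[(0, 1), (2, 3), (4, 5), (6, 7)], [(0, 2), (1, 3), (4, 6), (5, 7)], [(0, 4), (1, 5), (2, 6), (3, 7)]]

def eR : List (List ℕ) :=
  [[], [0], [1], [2], [1, 0], [2, 0], [2, 1], [2, 1, 0]]

def dR : List (ℕ × List (ℕ × ℕ)) :=
  [(0, []), (1, []), (1, [(1, 2), (5, 6)]), (1, [(1, 4), (4, 2), (3, 5), (5, 6)]), (1, [(1, 3), (3, 2), (5, 7),
   (7, 6)]), (1, [(1, 5), (5, 7), (7, 6), (6, 3), (3, 4), (4, 2)]), (1, [(1, 6), (6, 3), (3, 7), (7, 5), (5, 4),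
   (4, 2)]), (1, [(1, 7), (7, 4), (4, 2), (3, 6)])]

def gZ : List (List (ℕ × ℕ)) :=
  [[(0, 1), (2, 3), (4, 5), (6, 7)], [(0, 2), (1, 3), (4, 6), (5, 7)], [(0, 4), (1, 5), (2, 6), (3, 7)], [(8, 9),
   (9, 10)]]

def eZ : List (List ℕ) :=
  [[], [0], [1], [2], [3], [1, 0], [2, 0], [2, 1], [3, 0], [3, 1], [3, 2], [3, 3], [2, 1, 0], [3, 1, 0], [3, 2,
   0], [3, 2, 1], [3, 3, 0], [3, 3, 1], [3, 3, 2], [3, 2, 1, 0], [3, 3, 1, 0], [3, 3, 2, 0], [3, 3, 2, 1], [3, 3,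
   2, 1, 0]]

def dZ : List (ℕ × List (ℕ × ℕ)) :=
  [(0, []), (1, []), (1, [(1, 2), (5, 6)]), (1, [(1, 4), (4, 2), (3, 5), (5, 6)]), (2, [(0, 8), (8, 5), (5, 2),
   (2, 10), (10, 7), (7, 4), (4, 1), (1, 9), (9, 6), (6, 3)]), (1, [(1, 3), (3, 2), (5, 7), (7, 6)]), (1, [(1, 5),
   (5, 7), (7, 6), (6, 3), (3, 4), (4, 2)]), (1, [(1, 6), (6, 3), (3, 7), (7, 5), (5, 4), (4, 2)]), (3, []), (3,
   [(1, 2), (5, 6)]), (3, [(1, 4), (4, 2), (3, 5), (5, 6)]), (2, [(0, 8), (8, 5), (5, 2), (2, 9), (9, 6), (6, 3),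
   (3, 1), (1, 10), (10, 7), (7, 4)]), (1, [(1, 7), (7, 4), (4, 2), (3, 6)]), (3, [(1, 3), (3, 2), (5, 7), (7,
   6)]), (3, [(1, 5), (5, 7), (7, 6), (6, 3), (3, 4), (4, 2)]), (3, [(1, 6), (6, 3), (3, 7), (7, 5), (5, 4), (4,
   2)]), (3, [(0, 1), (9, 10)]), (3, [(0, 2), (2, 1), (5, 6), (9, 10)]), (3, [(0, 4), (4, 2), (2, 1), (3, 5), (5,
   6), (9, 10)]), (3, [(1, 7), (7, 4), (4, 2), (3, 6)]), (3, [(0, 3), (3, 2), (2, 1), (5, 7), (7, 6), (9, 10)]),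
   (3, [(0, 5), (5, 7), (7, 6), (6, 3), (3, 4), (4, 2), (2, 1), (9, 10)]), (3, [(0, 6), (6, 3), (3, 7), (7, 5),
   (5, 4), (4, 2), (2, 1), (9, 10)]), (3, [(0, 7), (7, 4), (4, 2), (2, 1), (3, 6), (9, 10)])]

theorem chkG_R : chkG 11 gR eR = true := by decide +kernel
theorem chkC_R : chkC 11 gR eR [] r11 dR = true := by decide +kernel
theorem len_R : eR.length = 8 := by decide +kernel
theorem cnt_R : (List.range 4).map (fun k => (dR.map Prod.fst).count k) = [1, 7, 0, 0] := by decide +kernel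

theorem chkG_Z : chkG 11 gZ eZ = true := by decide +kernel
theorem chkC_Z : chkC 11 gZ eZ [] r11 dZ = true := by decide +kernel
theorem len_Z : eZ.length = 24 := by decide +kernel
theorem cnt_Z : (List.range 4).map (fun k => (dZ.map Prod.fst).count k) = [1, 7, 2, 14] := by decide +kernel

end Cfsg.Agent.R2.T1.Nodd
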