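import Cfsg.Agent.R2.T1.Odd.Typ

/-!
# S5771, NODD: tables of subgroups of `A_10` (helper25)

`F = 5²:2` (order 50), `T = 5²:8` (order 200), `D` (order 16).
-/

set_option autoImplicit false
set_option maxRecDepth 100000

namespace Cfsg.Agent.R2.T1.Nodd

open Cfsg.Agent.R2.T1.Odd

/-- representatives of the classes: `1`, `2⁴`, `44`, `5`, `55`, `82` -/
def r10 : List (List (ℕ × ℕ)) :=
  [[], [(0, 1), (2, 3), (4, 5), (6, 7)], [(0, 1), (1, 2), (2, 3), (4, 5), (5, 6), (6, 7)], [(0, 1), (1, 2), (2,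
   3), (3, 4)], [(0, 1), (1, 2), (2, 3), (3, 4), (5, 6), (6, 7), (7, 8), (8, 9)], [(0, 1), (1, 2), (2, 3), (3, 4),
   (4, 5), (5, 6), (6, 7), (8, 9)]]

def gF : List (List (ℕ × ℕ)) :=
  [[(0, 1), (1, 2), (2, 3), (3, 4)], [(5, 6), (6, 7), (7, 8), (8, 9)], [(1, 4), (2, 3), (6, 9), (7, 8)]]

def eF : List (List ℕ) :=
  [[], [0], [1], [2], [0, 0], [0, 2], [1, 0], [1, 1], [1, 2], [2, 0], [2, 1], [0, 0, 0], [0, 0, 2], [0, 2, 1], [1,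
   0, 0], [1, 0, 2], [1, 1, 0], [1, 1, 1], [1, 1, 2], [1, 2, 0], [2, 0, 0], [2, 0, 2], [2, 1, 0], [2, 1, 1], [2,
   1, 2], [0, 0, 2, 1], [0, 2, 1, 1], [1, 0, 0, 0], [1, 0, 0, 2], [1, 1, 0, 0], [1, 1, 0, 2], [1, 1, 1, 0], [1, 1,
   2, 0], [1, 2, 0, 0], [2, 0, 2, 1], [2, 1, 0, 0], [2, 1, 0, 2], [2, 1, 1, 0], [2, 1, 2, 0], [0, 0, 2, 1, 1], [1,
   1, 0, 0, 0], [1, 1, 0, 0, 2], [1, 1, 1, 0, 0], [1, 1, 2, 0, 0], [2, 0, 2, 1, 1], [2, 1, 0, 0, 2], [2, 1, 1, 0,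
   0], [2, 1, 1, 0, 2], [2, 1, 2, 0, 0], [1, 1, 1, 0, 0, 0]]

def dF : List (ℕ × List (ℕ × ℕ)) :=
  [(0, []), (3, []), (3, [(0, 5), (5, 1), (1, 6), (2, 7), (3, 8), (4, 9)]), (1, [(0, 1), (1, 4), (4, 6), (6, 7),
   (7, 8), (5, 9)]), (3, [(1, 2), (2, 4), (4, 3), (5, 6)]), (1, [(0, 1), (3, 4), (4, 6), (6, 7), (7, 8), (5, 9)]),
   (4, []), (3, [(0, 5), (1, 7), (7, 2), (2, 9), (9, 4), (4, 8), (8, 3), (3, 6)]), (1, [(0, 4), (4, 5), (5, 6),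
   (6, 7), (7, 9), (9, 8)]), (1, [(1, 4), (4, 6), (6, 7), (7, 8), (8, 2), (5, 9)]), (1, [(0, 1), (1, 4), (4, 5),
   (5, 9), (9, 7), (7, 8)]), (3, [(1, 3), (3, 4), (4, 2), (5, 6)]), (1, [(0, 2), (2, 3), (3, 4), (4, 6), (6, 7),
   (7, 8), (8, 1), (5, 9)]), (1, [(0, 1), (3, 4), (4, 5), (5, 9), (9, 7), (7, 8)]), (4, [(0, 5), (1, 6), (6, 2),
   (2, 7), (7, 4), (4, 9), (9, 3), (3, 8)]), (1, [(3, 4), (4, 5), (5, 6), (6, 7), (7, 9), (9, 8)]), (4, [(0, 5),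
   (1, 7), (7, 2), (2, 9), (9, 4), (4, 8), (8, 3), (3, 6)]), (3, [(0, 5), (1, 8), (8, 3), (3, 9), (9, 4), (4, 7),
   (7, 2), (2, 6)]), (1, [(0, 4), (4, 5), (5, 7), (7, 9), (9, 6), (6, 8)]), (1, [(0, 4), (4, 5), (5, 6), (6, 7),
   (7, 9), (9, 8), (8, 2), (2, 1)]), (1, [(1, 3), (3, 2), (4, 6), (6, 7), (7, 8), (5, 9)]), (3, [(1, 4), (2, 3)]),
   (1, [(1, 4), (4, 5), (5, 9), (9, 7), (7, 8), (8, 2)]), (1, [(0, 1), (1, 4), (4, 5), (5, 8)]), (3, [(0, 5), (5,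
   1), (1, 9), (9, 4), (4, 6), (2, 8), (8, 3), (3, 7)]), (1, [(0, 2), (2, 3), (3, 4), (4, 5), (5, 9), (9, 7), (7,
   8), (8, 1)]), (1, [(0, 1), (3, 4), (4, 5), (5, 8)]), (4, [(0, 5), (1, 6), (6, 3), (3, 8), (8, 4), (4, 9), (9,
   2), (2, 7)]), (1, [(1, 2), (2, 3), (3, 4), (4, 5), (5, 6), (6, 7), (7, 9), (9, 8)]), (4, [(1, 2), (2, 4), (4,
   3), (6, 7), (7, 9), (9, 8)]), (1, [(3, 4), (4, 5), (5, 7), (7, 9), (9, 6), (6, 8)]), (4, [(0, 5), (1, 8), (8,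
   3), (3, 9), (9, 4), (4, 7), (7, 2), (2, 6)]), (1, [(0, 4), (4, 5), (5, 7), (7, 9), (9, 6), (6, 8), (8, 2), (2,
   1)]), (1, [(0, 3), (3, 2), (2, 1), (4, 5), (5, 6), (6, 7), (7, 9), (9, 8)]), (4, [(1, 4), (2, 3)]), (1, [(1,
   3), (3, 2), (4, 5), (5, 9), (9, 7), (7, 8)]), (4, [(1, 4), (2, 3), (6, 9), (7, 8)]), (1, [(1, 4), (4, 5), (5,
   8), (8, 2)]), (4, [(6, 9), (7, 8)]), (1, [(0, 2), (2, 3), (3, 4), (4, 5), (5, 8), (8, 1)]), (4, [(1, 3), (3,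
   4), (4, 2), (6, 7), (7, 9), (9, 8)]), (1, [(1, 2), (2, 3), (3, 4), (4, 5), (5, 7), (7, 9), (9, 6), (6, 8)]),
   (4, [(1, 2), (2, 4), (4, 3), (6, 8), (8, 9), (9, 7)]), (1, [(0, 3), (3, 2), (2, 1), (4, 5), (5, 7), (7, 9), (9,
   6), (6, 8)]), (4, [(0, 5), (1, 7), (7, 3), (3, 6), (6, 4), (4, 8), (8, 2), (2, 9)]), (4, [(0, 5), (1, 9), (9,
   2), (2, 8), (8, 4), (4, 6), (6, 3), (3, 7)]), (1, [(1, 3), (3, 2), (4, 5), (5, 8)]), (4, [(0, 5), (1, 8), (8,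
   2), (2, 6), (6, 4), (4, 7), (7, 3), (3, 9)]), (4, [(0, 5), (1, 9), (9, 3), (3, 7), (7, 4), (4, 6), (6, 2), (2,
   8)]), (4, [(1, 3), (3, 4), (4, 2), (6, 8), (8, 9), (9, 7)])]

def gT : List (List (ℕ × ℕ)) :=
  [[(0, 1), (1, 2), (2, 3), (3, 4)], [(5, 6), (6, 7), (7, 8), (8, 9)], [(0, 5), (1, 6), (6, 2), (2, 7), (7, 4),
   (4, 9), (9, 3), (3, 8)]]

def eT : List (List ℕ) :=
  [[], [0], [1], [2], [0, 0], [0, 2], [1, 0], [1, 1], [2, 0], [2, 1], [2, 2], [0, 0, 0], [0, 2, 0], [0, 2, 1], [0,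
   2, 2], [1, 0, 0], [1, 1, 0], [1, 1, 1], [2, 0, 0], [2, 0, 2], [2, 1, 0], [2, 1, 1], [2, 2, 0], [2, 2, 1], [2,
   2, 2], [0, 0, 0, 0], [0, 2, 0, 0], [0, 2, 0, 2], [0, 2, 1, 0], [0, 2, 2, 0], [0, 2, 2, 1], [0, 2, 2, 2], [1, 0,
   0, 0], [1, 1, 0, 0], [1, 1, 1, 0], [1, 1, 1, 1], [2, 0, 0, 0], [2, 0, 2, 0], [2, 0, 2, 1], [2, 0, 2, 2], [2, 1,
   0, 0], [2, 1, 1, 0], [2, 2, 0, 0], [2, 2, 0, 2], [2, 2, 1, 0], [2, 2, 1, 1], [2, 2, 2, 0], [2, 2, 2, 1], [2, 2,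
   2, 2], [0, 2, 0, 0, 0], [0, 2, 0, 2, 0], [0, 2, 0, 2, 1], [0, 2, 0, 2, 2], [0, 2, 1, 0, 0], [0, 2, 2, 1, 0],
   [0, 2, 2, 1, 1], [0, 2, 2, 2, 0], [0, 2, 2, 2, 2], [1, 0, 0, 0, 0], [1, 1, 0, 0, 0], [1, 1, 1, 0, 0], [1, 1, 1,
   1, 0], [2, 0, 0, 0, 0], [2, 0, 2, 0, 0], [2, 0, 2, 0, 2], [2, 0, 2, 1, 0], [2, 0, 2, 2, 0], [2, 0, 2, 2, 1],
   [2, 0, 2, 2, 2], [2, 1, 0, 0, 0], [2, 1, 1, 0, 0], [2, 2, 0, 2, 0], [2, 2, 0, 2, 2], [2, 2, 1, 0, 0], [2, 2, 1,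
   1, 0], [2, 2, 2, 0, 0], [2, 2, 2, 0, 2], [2, 2, 2, 1, 0], [2, 2, 2, 1, 1], [2, 2, 2, 2, 0], [2, 2, 2, 2, 1],
   [2, 2, 2, 2, 2], [0, 2, 0, 0, 0, 0], [0, 2, 0, 2, 1, 0], [0, 2, 0, 2, 2, 0], [0, 2, 0, 2, 2, 2], [0, 2, 1, 0,
   0, 0], [0, 2, 2, 1, 1, 0], [0, 2, 2, 2, 0, 0], [0, 2, 2, 2, 0, 2], [0, 2, 2, 2, 2, 1], [0, 2, 2, 2, 2, 2], [1,
   1, 0, 0, 0, 0], [1, 1, 1, 0, 0, 0], [1, 1, 1, 1, 0, 0], [2, 0, 2, 0, 2, 0], [2, 0, 2, 0, 2, 2], [2, 0, 2, 1, 0,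
   0], [2, 0, 2, 2, 1, 0], [2, 0, 2, 2, 1, 1], [2, 0, 2, 2, 2, 0], [2, 0, 2, 2, 2, 2], [2, 1, 0, 0, 0, 0], [2, 1,
   1, 0, 0, 0], [2, 2, 0, 2, 0, 0], [2, 2, 0, 2, 0, 2], [2, 2, 0, 2, 2, 1], [2, 2, 0, 2, 2, 2], [2, 2, 1, 1, 0,
   0], [2, 2, 2, 0, 2, 0], [2, 2, 2, 0, 2, 2], [2, 2, 2, 1, 0, 0], [2, 2, 2, 1, 1, 0], [2, 2, 2, 2, 0, 0], [2, 2,
   2, 2, 0, 2], [2, 2, 2, 2, 1, 0], [2, 2, 2, 2, 1, 1], [2, 2, 2, 2, 2, 0], [2, 2, 2, 2, 2, 1], [2, 2, 2, 2, 2,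
   2], [0, 2, 0, 2, 2, 2, 2], [0, 2, 1, 0, 0, 0, 0], [0, 2, 2, 2, 0, 2, 2], [0, 2, 2, 2, 2, 1, 1], [0, 2, 2, 2, 2,
   2, 0], [0, 2, 2, 2, 2, 2, 2], [1, 1, 1, 0, 0, 0, 0], [1, 1, 1, 1, 0, 0, 0], [2, 0, 2, 0, 2, 2, 2], [2, 0, 2, 2,
   1, 1, 0], [2, 0, 2, 2, 2, 0, 0], [2, 0, 2, 2, 2, 0, 2], [2, 0, 2, 2, 2, 2, 1], [2, 0, 2, 2, 2, 2, 2], [2, 1, 1,
   0, 0, 0, 0], [2, 2, 0, 2, 0, 2, 2], [2, 2, 0, 2, 2, 1, 1], [2, 2, 0, 2, 2, 2, 0], [2, 2, 0, 2, 2, 2, 2], [2, 2,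
   2, 0, 2, 0, 0], [2, 2, 2, 0, 2, 0, 2], [2, 2, 2, 0, 2, 2, 1], [2, 2, 2, 0, 2, 2, 2], [2, 2, 2, 1, 1, 0, 0], [2,
   2, 2, 2, 0, 2, 0], [2, 2, 2, 2, 0, 2, 2], [2, 2, 2, 2, 1, 0, 0], [2, 2, 2, 2, 1, 1, 0], [2, 2, 2, 2, 2, 0, 0],
   [2, 2, 2, 2, 2, 0, 2], [2, 2, 2, 2, 2, 1, 0], [2, 2, 2, 2, 2, 2, 0], [2, 2, 2, 2, 2, 2, 1], [2, 2, 2, 2, 2, 2,
   2], [0, 2, 0, 2, 2, 2, 2, 2], [0, 2, 2, 2, 0, 2, 2, 2], [0, 2, 2, 2, 2, 2, 0, 0], [0, 2, 2, 2, 2, 2, 0, 2], [0,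
   2, 2, 2, 2, 2, 2, 1], [1, 1, 1, 1, 0, 0, 0, 0], [2, 0, 2, 0, 2, 2, 2, 2], [2, 0, 2, 2, 2, 0, 2, 2], [2, 0, 2,
   2, 2, 2, 2, 0], [2, 0, 2, 2, 2, 2, 2, 2], [2, 2, 0, 2, 0, 2, 2, 2], [2, 2, 0, 2, 2, 2, 0, 0], [2, 2, 0, 2, 2,
   2, 0, 2], [2, 2, 0, 2, 2, 2, 2, 1], [2, 2, 0, 2, 2, 2, 2, 2], [2, 2, 2, 0, 2, 0, 2, 2], [2, 2, 2, 0, 2, 2, 2,
   0], [2, 2, 2, 0, 2, 2, 2, 2], [2, 2, 2, 2, 0, 2, 0, 0], [2, 2, 2, 2, 0, 2, 0, 2], [2, 2, 2, 2, 0, 2, 2, 1], [2,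
   2, 2, 2, 0, 2, 2, 2], [2, 2, 2, 2, 1, 1, 0, 0], [2, 2, 2, 2, 2, 0, 2, 0], [2, 2, 2, 2, 2, 0, 2, 2], [2, 2, 2,
   2, 2, 1, 0, 0], [2, 2, 2, 2, 2, 2, 0, 2], [2, 2, 2, 2, 2, 2, 1, 0], [2, 2, 2, 2, 2, 2, 2, 0], [2, 2, 2, 2, 2,
   2, 2, 1], [2, 0, 2, 0, 2, 2, 2, 2, 2], [2, 0, 2, 2, 2, 0, 2, 2, 2], [2, 0, 2, 2, 2, 2, 2, 0, 2], [2, 0, 2, 2,
   2, 2, 2, 2, 1], [2, 2, 0, 2, 0, 2, 2, 2, 2], [2, 2, 0, 2, 2, 2, 0, 2, 2], [2, 2, 0, 2, 2, 2, 2, 2, 0], [2, 2,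
   2, 0, 2, 0, 2, 2, 2], [2, 2, 2, 0, 2, 2, 2, 0, 2], [2, 2, 2, 0, 2, 2, 2, 2, 1], [2, 2, 2, 2, 0, 2, 0, 2, 2],
   [2, 2, 2, 2, 0, 2, 2, 2, 0], [2, 2, 2, 2, 2, 0, 2, 0, 2], [2, 2, 2, 2, 2, 0, 2, 2, 1], [2, 2, 2, 2, 2, 2, 0, 2,
   0], [2, 2, 2, 2, 2, 2, 2, 1, 0]]

def dT : List (ℕ × List (ℕ × ℕ)) :=
  [(0, []), (3, []), (3, [(0, 5), (5, 1), (1, 6), (2, 7), (3, 8), (4, 9)]), (5, [(0, 1), (1, 6), (6, 3), (3, 7),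
   (7, 8), (5, 9)]), (3, [(1, 2), (2, 4), (4, 3), (5, 6)]), (5, [(1, 5), (5, 8), (8, 4), (4, 3), (3, 6), (6, 2)]),
   (4, []), (3, [(0, 5), (1, 7), (7, 2), (2, 9), (9, 4), (4, 8), (8, 3), (3, 6)]), (5, [(1, 6), (6, 4), (3, 8),
   (5, 7)]), (5, [(1, 5), (5, 6), (6, 4), (3, 7), (7, 9), (9, 8)]), (2, [(0, 1), (1, 2), (2, 4), (4, 6), (6, 9),
   (9, 5), (5, 7), (7, 8)]), (3, [(1, 3), (3, 4), (4, 2), (5, 6)]), (5, [(1, 6), (2, 3), (3, 9), (9, 8)]), (5,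
   [(1, 5), (5, 9), (9, 7), (7, 6), (2, 3), (3, 8)]), (2, [(2, 3), (4, 6), (6, 9), (9, 5), (5, 7), (7, 8)]), (4,
   [(0, 5), (1, 6), (6, 2), (2, 7), (7, 4), (4, 9), (9, 3), (3, 8)]), (4, [(0, 5), (1, 7), (7, 2), (2, 9), (9, 4),
   (4, 8), (8, 3), (3, 6)]), (3, [(0, 5), (1, 8), (8, 3), (3, 9), (9, 4), (4, 7), (7, 2), (2, 6)]), (5, [(1, 7),
   (7, 5), (5, 9), (9, 8), (2, 4), (3, 6)]), (2, [(0, 1), (1, 2), (2, 4), (4, 5), (5, 6), (6, 8)]), (5, [(1, 6),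
   (6, 3), (3, 5), (5, 8), (2, 4), (7, 9)]), (5, [(1, 5), (5, 7), (7, 8), (2, 4), (3, 9), (9, 6)]), (2, [(0, 2),
   (2, 4), (4, 6), (6, 9), (9, 5), (5, 7), (7, 8), (8, 3)]), (2, [(0, 2), (2, 3), (3, 1), (1, 4), (4, 5), (5, 7),
   (7, 9), (9, 8)]), (5, [(0, 1), (1, 7), (7, 9), (2, 3), (3, 6), (5, 8)]), (3, [(1, 4), (2, 3)]), (5, [(0, 1),
   (1, 8), (3, 9), (9, 7), (7, 5), (5, 6)]), (2, [(2, 3), (4, 5), (5, 6), (6, 8)]), (5, [(0, 1), (1, 7), (7, 9),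
   (9, 6), (6, 3), (3, 8)]), (2, [(0, 3), (1, 4), (4, 6), (6, 9), (9, 5), (5, 7), (7, 8), (8, 2)]), (2, [(0, 1),
   (1, 3), (4, 5), (5, 7), (7, 9), (9, 8)]), (5, [(1, 5), (5, 8), (8, 9), (9, 2), (3, 7), (7, 6)]), (4, [(0, 5),
   (1, 6), (6, 3), (3, 8), (8, 4), (4, 9), (9, 2), (2, 7)]), (4, [(1, 2), (2, 4), (4, 3), (6, 7), (7, 9), (9,
   8)]), (4, [(0, 5), (1, 8), (8, 3), (3, 9), (9, 4), (4, 7), (7, 2), (2, 6)]), (3, [(0, 5), (5, 1), (1, 9), (9,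
   4), (4, 6), (2, 8), (8, 3), (3, 7)]), (5, [(1, 8), (8, 4), (4, 3), (3, 9), (9, 7), (7, 5), (5, 6), (6, 2)]),
   (2, [(0, 2), (2, 4), (4, 5), (5, 6), (6, 8), (8, 3)]), (2, [(0, 2), (2, 3), (3, 1), (1, 4), (4, 5), (5, 8), (6,
   9), (9, 7)]), (5, [(1, 6), (6, 2), (2, 4), (3, 9), (5, 8), (8, 7)]), (5, [(1, 7), (7, 9), (9, 6), (6, 2), (3,
   8), (8, 4)]), (5, [(1, 6), (6, 2), (3, 7), (7, 8), (8, 4), (5, 9)]), (2, [(1, 4), (4, 6), (6, 9), (9, 5), (5,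
   7), (7, 8)]), (5, [(1, 5), (5, 6), (3, 9), (9, 4)]), (2, [(1, 2), (3, 4), (4, 5), (5, 7), (7, 9), (9, 8)]), (2,
   [(0, 1), (1, 2), (2, 4), (4, 5), (5, 9), (9, 6), (6, 7), (7, 8)]), (5, [(1, 7), (7, 5), (5, 6), (6, 4), (4, 2),
   (2, 3), (3, 8), (8, 9)]), (5, [(1, 5), (5, 7), (7, 9), (9, 3), (3, 8), (8, 6), (6, 2), (2, 4)]), (1, [(0, 1),
   (1, 4), (4, 6), (6, 7), (7, 8), (5, 9)]), (5, [(1, 8), (8, 3), (3, 5), (5, 9), (9, 6), (6, 4)]), (2, [(0, 3),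
   (1, 4), (4, 5), (5, 6), (6, 8), (8, 2)]), (2, [(0, 1), (1, 3), (4, 5), (5, 8), (6, 9), (9, 7)]), (5, [(0, 1),
   (1, 8), (8, 6), (6, 2), (2, 3), (3, 7), (7, 5), (5, 9)]), (5, [(1, 7), (7, 6), (6, 4), (3, 9), (9, 5), (5,
   8)]), (2, [(1, 3), (2, 4), (4, 5), (5, 7), (7, 9), (9, 8)]), (2, [(2, 3), (4, 5), (5, 9), (9, 6), (6, 7), (7,
   8)]), (5, [(1, 7), (7, 6), (6, 2), (2, 4), (3, 5), (5, 9)]), (1, [(0, 1), (3, 4), (4, 6), (6, 7), (7, 8), (5,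
   9)]), (4, [(1, 4), (2, 3)]), (4, [(1, 3), (3, 4), (4, 2), (6, 7), (7, 9), (9, 8)]), (4, [(1, 2), (2, 4), (4,
   3), (6, 8), (8, 9), (9, 7)]), (4, [(6, 9), (7, 8)]), (5, [(1, 9), (9, 6), (2, 3), (3, 7), (7, 5), (5, 8)]), (2,
   [(1, 4), (4, 5), (5, 6), (6, 8)]), (5, [(1, 6), (6, 3), (3, 8), (8, 5), (5, 9), (9, 2)]), (2, [(1, 2), (3, 4),
   (4, 5), (5, 8), (6, 9), (9, 7)]), (5, [(1, 8), (8, 6), (3, 7), (7, 5), (5, 9), (9, 4)]), (5, [(1, 6), (6, 4),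
   (4, 2), (2, 3), (3, 7), (7, 9)]), (1, [(0, 4), (4, 5), (5, 6), (6, 7), (7, 9), (9, 8)]), (5, [(1, 8), (8, 2),
   (2, 3), (3, 6), (5, 7), (7, 9)]), (5, [(1, 7), (7, 8), (8, 2), (2, 3), (3, 5), (5, 6)]), (5, [(0, 1), (1, 9),
   (2, 3), (3, 8), (8, 7), (7, 6)]), (1, [(0, 2), (2, 3), (3, 4), (4, 6), (6, 7), (7, 8), (8, 1), (5, 9)]), (2,
   [(0, 4), (4, 5), (5, 7), (7, 9), (9, 8), (8, 1), (1, 2), (2, 3)]), (2, [(0, 2), (2, 4), (4, 5), (5, 9), (9, 6),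
   (6, 7), (7, 8), (8, 3)]), (5, [(1, 9), (9, 2), (3, 6), (5, 7)]), (1, [(0, 4), (4, 5), (5, 7), (7, 9), (9, 6),
   (6, 8)]), (5, [(1, 7), (7, 9), (9, 4), (4, 3), (3, 6), (5, 8)]), (5, [(1, 5), (5, 9), (2, 3), (3, 6), (6, 4),
   (7, 8)]), (1, [(1, 4), (4, 6), (6, 7), (7, 8), (8, 2), (5, 9)]), (1, [(0, 1), (1, 4), (4, 5), (5, 9), (9, 7),
   (7, 8)]), (5, [(0, 1), (1, 9), (9, 5), (5, 6), (6, 3), (3, 8)]), (5, [(1, 9), (9, 5), (5, 6), (6, 3), (3, 8),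
   (2, 4)]), (2, [(1, 3), (2, 4), (4, 5), (5, 8), (6, 9), (9, 7)]), (5, [(1, 8), (8, 5), (5, 7), (7, 6), (6, 4),
   (4, 2), (2, 3), (3, 9)]), (1, [(3, 4), (4, 5), (5, 6), (6, 7), (7, 9), (9, 8)]), (5, [(1, 8), (2, 4), (3, 7),
   (7, 6)]), (2, [(0, 3), (1, 4), (4, 5), (5, 9), (9, 6), (6, 7), (7, 8), (8, 2)]), (5, [(1, 9), (9, 4), (4, 3),
   (3, 8), (8, 7), (7, 6)]), (1, [(3, 4), (4, 5), (5, 7), (7, 9), (9, 6), (6, 8)]), (1, [(0, 1), (3, 4), (4, 5),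
   (5, 9), (9, 7), (7, 8)]), (5, [(1, 5), (5, 7), (7, 8), (8, 4), (4, 3), (3, 9), (9, 6), (6, 2)]), (4, [(0, 5),
   (1, 7), (7, 3), (3, 6), (6, 4), (4, 8), (8, 2), (2, 9)]), (4, [(1, 3), (3, 4), (4, 2), (6, 8), (8, 9), (9,
   7)]), (4, [(0, 5), (1, 9), (9, 3), (3, 7), (7, 4), (4, 6), (6, 2), (2, 8)]), (5, [(1, 8), (8, 9), (9, 3), (3,
   6), (6, 2), (2, 4)]), (1, [(1, 2), (2, 3), (3, 4), (4, 5), (5, 6), (6, 7), (7, 9), (9, 8)]), (2, [(0, 4), (4,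
   5), (5, 8), (8, 1), (1, 2), (2, 3), (6, 9), (9, 7)]), (5, [(1, 8), (8, 7), (7, 9), (9, 2), (3, 5), (5, 6)]),
   (5, [(1, 6), (3, 5), (5, 7), (7, 8), (8, 9), (9, 4)]), (1, [(0, 4), (4, 5), (5, 6), (6, 7), (7, 9), (9, 8), (8,
   2), (2, 1)]), (5, [(1, 6), (2, 3), (3, 8), (5, 7)]), (5, [(0, 1), (1, 5), (5, 8), (3, 6)]), (5, [(0, 1), (1,
   9), (9, 8), (3, 5), (5, 7), (7, 6)]), (5, [(1, 9), (2, 3), (3, 5), (5, 8), (8, 6), (6, 4)]), (1, [(1, 2), (2,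
   3), (3, 4), (4, 5), (5, 7), (7, 9), (9, 6), (6, 8)]), (1, [(0, 2), (2, 3), (3, 4), (4, 5), (5, 9), (9, 7), (7,
   8), (8, 1)]), (5, [(1, 5), (5, 9), (9, 7), (7, 6), (6, 4), (3, 8)]), (2, [(1, 4), (4, 5), (5, 9), (9, 6), (6,
   7), (7, 8)]), (1, [(0, 4), (4, 5), (5, 7), (7, 9), (9, 6), (6, 8), (8, 2), (2, 1)]), (5, [(1, 7), (7, 5), (5,
   9), (9, 8), (8, 4), (4, 3), (3, 6), (6, 2)]), (5, [(0, 1), (1, 6), (6, 2), (2, 3), (3, 5), (5, 7), (7, 8), (8,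
   9)]), (5, [(1, 7), (7, 8), (8, 6), (6, 3), (3, 9), (9, 2)]), (1, [(1, 3), (3, 2), (4, 6), (6, 7), (7, 8), (5,
   9)]), (5, [(1, 5), (5, 8), (2, 4), (3, 6)]), (1, [(1, 4), (4, 5), (5, 9), (9, 7), (7, 8), (8, 2)]), (1, [(0,
   1), (1, 4), (4, 5), (5, 8)]), (5, [(1, 9), (9, 6), (6, 4), (3, 7), (7, 5), (5, 8)]), (5, [(1, 5), (5, 6), (2,
   3), (3, 7), (7, 9), (9, 8)]), (2, [(0, 1), (1, 3), (3, 2), (2, 4), (4, 6), (6, 9), (9, 5), (5, 8)]), (5, [(1,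
   6), (6, 3), (3, 7), (7, 8), (2, 4), (5, 9)]), (5, [(1, 9), (9, 8), (8, 4), (4, 3), (3, 5), (5, 7), (7, 6), (6,
   2)]), (5, [(1, 7), (7, 8), (8, 3), (3, 5), (5, 6), (6, 4)]), (1, [(0, 1), (3, 4), (4, 5), (5, 8)]), (5, [(1,
   9), (9, 7), (7, 8), (8, 2), (2, 3), (3, 6)]), (2, [(0, 1), (1, 4), (4, 6), (6, 9), (9, 5), (5, 8), (8, 2), (2,
   3)]), (4, [(0, 5), (1, 8), (8, 2), (2, 6), (6, 4), (4, 7), (7, 3), (3, 9)]), (4, [(0, 5), (1, 9), (9, 2), (2,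
   8), (8, 4), (4, 6), (6, 3), (3, 7)]), (5, [(0, 1), (1, 5), (5, 7), (7, 8), (3, 9), (9, 6)]), (5, [(0, 1), (1,
   5), (5, 6), (6, 2), (2, 3), (3, 9)]), (1, [(0, 3), (3, 2), (2, 1), (4, 5), (5, 6), (6, 7), (7, 9), (9, 8)]),
   (5, [(1, 6), (6, 4), (3, 9), (9, 8)]), (5, [(1, 6), (6, 2), (3, 5), (5, 8), (8, 4), (7, 9)]), (2, [(0, 3), (3,
   1), (1, 4), (4, 5), (5, 6), (6, 9), (9, 7), (7, 8)]), (5, [(1, 9), (9, 7), (7, 8), (8, 3), (3, 6), (6, 4)]),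
   (5, [(1, 7), (7, 6), (2, 3), (3, 9), (9, 5), (5, 8)]), (1, [(0, 2), (2, 3), (3, 4), (4, 5), (5, 8), (8, 1)]),
   (5, [(1, 9), (9, 8), (2, 4), (3, 5), (5, 7), (7, 6)]), (2, [(1, 2), (2, 3), (4, 6), (6, 9), (9, 5), (5, 8)]),
   (1, [(0, 3), (3, 2), (2, 1), (4, 5), (5, 7), (7, 9), (9, 6), (6, 8)]), (5, [(0, 1), (1, 6), (6, 3), (3, 5), (5,
   8), (7, 9)]), (5, [(1, 7), (7, 9), (9, 6), (6, 3), (3, 8), (2, 4)]), (2, [(0, 1), (1, 3), (3, 2), (2, 4), (4,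
   5), (5, 7), (7, 6), (6, 8)]), (5, [(1, 9), (9, 3), (3, 7), (7, 8), (8, 5), (5, 6), (6, 2), (2, 4)]), (5, [(1,
   9), (9, 5), (5, 6), (6, 2), (3, 8), (8, 4)]), (2, [(0, 4), (4, 6), (6, 9), (9, 5), (5, 8), (8, 3)]), (1, [(1,
   3), (3, 2), (4, 5), (5, 9), (9, 7), (7, 8)]), (1, [(1, 4), (4, 5), (5, 8), (8, 2)]), (5, [(1, 8), (2, 4), (3,
   9), (9, 7), (7, 5), (5, 6)]), (2, [(0, 3), (3, 1), (1, 4), (4, 5), (5, 9), (9, 8)]), (5, [(0, 1), (1, 8), (3,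
   7), (7, 6)]), (2, [(1, 3), (3, 4), (4, 6), (6, 9), (9, 5), (5, 8)]), (2, [(0, 1), (1, 3), (3, 2), (2, 4), (4,
   5), (5, 8), (6, 7), (7, 9)]), (5, [(0, 1), (1, 8), (8, 5), (5, 7), (7, 6), (6, 2), (2, 3), (3, 9)]), (2, [(2,
   4), (4, 5), (5, 6), (6, 9), (9, 7), (7, 8)]), (2, [(0, 1), (1, 4), (4, 5), (5, 7), (7, 6), (6, 8), (8, 2), (2,
   3)]), (5, [(0, 1), (1, 7), (7, 5), (5, 9), (9, 8), (3, 6)]), (2, [(2, 4), (4, 5), (5, 9), (9, 8)]), (2, [(0,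
   1), (1, 4), (4, 5), (5, 8), (8, 2), (2, 3), (6, 7), (7, 9)]), (4, [(1, 4), (2, 3), (6, 9), (7, 8)]), (2, [(0,
   2), (2, 1), (1, 3), (4, 5), (5, 6), (6, 9), (9, 7), (7, 8)]), (2, [(1, 4), (4, 5), (5, 6), (6, 9), (9, 7), (7,
   8), (8, 3), (3, 2)]), (2, [(0, 3), (1, 2), (2, 4), (4, 5), (5, 6), (6, 9), (9, 7), (7, 8)]), (5, [(1, 6), (6,
   3), (3, 9), (9, 2), (5, 8), (8, 7)]), (2, [(1, 2), (2, 3), (4, 5), (5, 7), (7, 6), (6, 8)]), (5, [(1, 8), (8,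
   4), (4, 3), (3, 7), (7, 6), (6, 2)]), (2, [(0, 2), (2, 1), (1, 3), (4, 5), (5, 9), (9, 8)]), (2, [(1, 2), (2,
   3), (4, 5), (5, 8), (6, 7), (7, 9)]), (5, [(1, 5), (5, 9), (9, 4), (4, 3), (3, 6), (7, 8)]), (2, [(0, 4), (4,
   5), (5, 7), (7, 6), (6, 8), (8, 3)]), (2, [(1, 3), (3, 4), (4, 5), (5, 7), (7, 6), (6, 8)]), (5, [(1, 7), (7,
   5), (5, 6), (3, 8), (8, 9), (9, 4)]), (5, [(1, 8), (8, 2), (2, 3), (3, 5), (5, 9), (9, 6)]), (2, [(1, 4), (4,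
   5), (5, 9), (9, 8), (8, 3), (3, 2)]), (2, [(0, 4), (4, 5), (5, 8), (8, 3), (6, 7), (7, 9)]), (5, [(1, 5), (5,
   8), (8, 9), (9, 3), (3, 7), (7, 6), (6, 2), (2, 4)]), (1, [(1, 3), (3, 2), (4, 5), (5, 8)]), (2, [(0, 3), (1,
   2), (2, 4), (4, 5), (5, 9), (9, 8)]), (5, [(1, 9), (9, 3), (3, 6), (6, 2), (2, 4), (5, 7)]), (5, [(1, 8), (8,
   3), (3, 6), (6, 4), (5, 7), (7, 9)]), (5, [(1, 5), (5, 6), (6, 4), (4, 2), (2, 3), (3, 9)]), (2, [(1, 3), (3,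
   4), (4, 5), (5, 8), (6, 7), (7, 9)]), (5, [(1, 8), (8, 6), (6, 4), (4, 2), (2, 3), (3, 7), (7, 5), (5, 9)]),
   (5, [(1, 5), (5, 7), (7, 9), (9, 2), (3, 8), (8, 6)]), (5, [(1, 6), (6, 4), (4, 2), (2, 3), (3, 5), (5, 7), (7,
   8), (8, 9)]), (5, [(0, 1), (1, 9), (2, 3), (3, 5), (5, 8), (8, 6)]), (5, [(1, 6), (6, 2), (2, 4), (3, 8), (8,
   5), (5, 9)]), (5, [(1, 6), (3, 7), (7, 9), (9, 4)]), (5, [(1, 7), (7, 8), (8, 6), (6, 2), (2, 4), (3, 9)]), (5,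
   [(1, 9), (9, 2), (3, 7), (7, 8), (8, 5), (5, 6)]), (5, [(0, 1), (1, 6), (6, 2), (2, 3), (3, 7), (7, 9)]), (5,
   [(1, 7), (7, 6), (6, 3), (3, 5), (5, 9), (9, 2)]), (5, [(0, 1), (1, 5), (5, 9), (2, 3), (3, 6), (7, 8)]), (5,
   [(1, 7), (7, 9), (2, 3), (3, 6), (6, 4), (5, 8)]), (5, [(1, 9), (2, 3), (3, 8), (8, 7), (7, 6), (6, 4)]), (5,
   [(1, 8), (8, 5), (5, 7), (7, 6), (3, 9), (9, 4)]), (5, [(1, 9), (9, 4), (4, 3), (3, 5), (5, 8), (8, 6)]), (5,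
   [(0, 1), (1, 7), (7, 5), (5, 6), (6, 2), (2, 3), (3, 8), (8, 9)]), (5, [(1, 8), (8, 9), (9, 2), (3, 6)]), (5,
   [(1, 8), (8, 7), (7, 9), (9, 3), (3, 5), (5, 6), (6, 2), (2, 4)])]

def gD : List (List (ℕ × ℕ)) :=
  [[(0, 1), (1, 2), (2, 3), (3, 4), (4, 5), (5, 6), (6, 7), (8, 9)], [(1, 7), (2, 6), (3, 5), (8, 9)]]

def eD : List (List ℕ) :=
  [[], [0], [1], [0, 0], [0, 1], [1, 0], [0, 0, 0], [0, 0, 1], [1, 0, 0], [1, 0, 1], [0, 0, 0, 0], [0, 0, 0, 1],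
   [1, 0, 0, 0], [1, 0, 0, 1], [0, 0, 0, 0, 0], [1, 0, 0, 0, 0]]

def dD : List (ℕ × List (ℕ × ℕ)) :=
  [(0, []), (5, []), (1, [(0, 7), (7, 9), (9, 4), (4, 3), (3, 6), (6, 8)]), (2, [(1, 2), (2, 4), (3, 6), (6, 5)]),
   (1, [(3, 7), (7, 5), (5, 6), (6, 4)]), (1, [(1, 7), (7, 4), (4, 2), (3, 6)]), (5, [(1, 3), (2, 6), (5, 7), (8,
   9)]), (1, [(0, 2), (2, 3), (3, 7), (7, 9), (9, 5), (5, 6), (6, 8), (8, 1)]), (1, [(0, 6), (6, 8), (8, 3), (3,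
   5), (5, 4), (4, 2), (2, 1), (7, 9)]), (5, [(1, 7), (2, 6), (3, 5), (8, 9)]), (1, [(1, 4), (4, 2), (3, 5), (5,
   6)]), (1, [(1, 3), (3, 2), (5, 7), (7, 6)]), (1, [(1, 5), (5, 3), (3, 4), (4, 2)]), (2, [(1, 6), (6, 5), (5,
   7), (7, 3), (3, 2), (2, 4)]), (5, [(1, 5), (3, 7)]), (1, [(0, 4), (4, 5), (5, 7), (7, 9), (9, 6), (6, 8), (8,
   2), (2, 1)])]

theorem chkG_F : chkG 10 gF eF = true := by decide +kernel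
theorem chkC_F : chkC 10 gF eF [] r10 dF = true := by decide +kernel
theorem len_F : eF.length = 50 := by decide +kernel
theorem cnt_F : (List.range 6).map (fun k => (dF.map Prod.fst).count k) = [1, 25, 0, 8, 16, 0] := by decide +kernel

theorem chkG_T : chkG 10 gT eT = true := by decide +kernel
theorem chkC_T : chkC 10 gT eT [] r10 dT = true := by decide +kernel
theorem len_T : eT.length = 200 := by decide +kernel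
theorem cnt_T : (List.range 6).map (fun k => (dT.map Prod.fst).count k) = [1, 25, 50, 8, 16, 100] := by decide +kernel

theorem chkG_D : chkG 10 gD eD = true := by decide +kernel
theorem chkC_D : chkC 10 gD eD [] r10 dD = true := by decide +kernel
theorem len_D : eD.length = 16 := by decide +kernel
theorem cnt_D : (List.range 6).map (fun k => (dD.map Prod.fst).count k) = [1, 9, 2, 0, 0, 4] := by decide +kernel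

end Cfsg.Agent.R2.T1.Nodd
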